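import Groth.Agent.TypeALib.Basic
import Mathlib.CategoryTheory.Sites.SheafOfTypes
import Mathlib.CategoryTheory.Limits.Shapes.Pullback.HasPullback

/-!
# Refinements have finitely generated kernels
-/

set_option autoImplicit false
set_option linter.style.haveILetI false
set_option backward.isDefEq.respectTransparency false
set_option backward.isDefEq.respectTransparency.types false

universe u

open CategoryTheory CategoryTheory.Limits Opposite

namespace Groth.Agent.TypeALib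

open Groth.Agent.ModTensor Groth.Agent.S9115

variable {C : Type u} [SmallCategory C] {J : GrothendieckTopology C} {O : Sheaf J CommRingCat.{u}} {B : Set C}

/-- Maps out of the refinement which agree on overlaps glue. -/
theorem exists_glue [HasPullbacks C] {U : C} {n : ℕ} {W : Fin n → C} (y : ∀ k, W k ⟶ U)
    (hy : Sieve.ofArrows W y ∈ J U) {M : ModSite.Mod O} (a : ∀ k, ModSite.freeOn O (W k) ⟶ M)
    (h : ∀ i j, freeMap (pullback.fst (y i) (y j)) ≫ a i = freeMap (pullback.snd (y i) (y j)) ≫ a j) :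
    ∃ b : ModSite.freeOn O U ⟶ M, ∀ k, freeMap (y k) ≫ b = a k := by
  let P := (fg O).obj M
  have hM : Presheaf.IsSheaf J P.presheaf := M.isSheaf
  have hsh : Presieve.IsSheafFor (P.presheaf ⋙ CategoryTheory.forget Ab.{u}) (Presieve.ofArrows W y) :=
    Presieve.isSheafFor_iff_generate _ |>.2
      (((Presheaf.isSheaf_iff_isSheaf_forget J P.presheaf (CategoryTheory.forget Ab.{u})).1 hM).isSheafFor _ hy)
  obtain ⟨t, ht, -⟩ := (Presieve.isSheafFor_arrows_iff_pullbacks _ _).1 hsh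
    (fun k => (freeOnCorepr O (W k)).homEquiv (a k)) (fun i j => by
      have := congrArg (freeOnCorepr O _).homEquiv (h i j)
      rwa [freeMap_comp, freeMap_comp] at this)
  refine ⟨(freeOnCorepr O U).homEquiv.symm t, fun k => (freeOnCorepr O (W k)).homEquiv.injective ?_⟩
  rw [freeMap_comp, Equiv.apply_symm_apply]
  exact ht k

theorem epi_kernel_lift {S : ShortComplex (ModSite.Mod O)} (hS : S.Exact) : Epi (kernel.lift S.g S.f S.zero) :=
  hS.epi_kernelLift

theorem genB_kernel_of_exact {R P M : ModSite.Mod O} {r : R ⟶ P} {p : P ⟶ M} {w : r ≫ p = 0}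
    (hR : GenB O B R) (hex : (ShortComplex.mk r p w).Exact) : GenB O B (kernel p) := by
  haveI : Epi (kernel.lift p r w) := epi_kernel_lift (S := ShortComplex.mk r p w) hex
  exact hR.of_epi (kernel.lift p r w)

variable (hB₁ : ∀ X : C, ∃ (κ : Type u) (Y : κ → C) (g : ∀ k, Y k ⟶ X), Sieve.ofArrows Y g ∈ J X ∧ ∀ k, Y k ∈ B)
  (hB₂ : ∀ U ∈ B, CohCx.IsQcObject ((presheafToSheaf J (Type u)).obj (yoneda.obj U)))

section

variable [HasPullbacks C]
  (hB₃ : ∀ (U U₁ U₂ : C) (f₁ : U₁ ⟶ U) (f₂ : U₂ ⟶ U), U ∈ B → U₁ ∈ B → U₂ ∈ B →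
      CohCx.IsQcObject ((presheafToSheaf J (Type u)).obj (yoneda.obj (pullback f₁ f₂))))

include hB₁ in
theorem genB_freeOn {U : C} (hU : CohCx.IsQcObject ((presheafToSheaf J (Type u)).obj (yoneda.obj U))) :
    GenB O B (ModSite.freeOn O U) := by
  obtain ⟨n, W, hW, q, hq, -⟩ := S9115.exists_lift B hB₁ hU (𝟙 (ModSite.freeOn O U)) (𝟙 _)
  exact ⟨_, q, isFree_sigma hW, hq⟩

include hB₁ hB₂ in
theorem GenB.biprod {P Q : ModSite.Mod O} (hP : GenB O B P) (hQ : GenB O B Q) : GenB O B (P ⊞ Q) :=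
  GenB.ext hB₁ hB₂ (ShortComplex.Splitting.ofHasBinaryBiproduct P Q).shortExact hP hQ

include hB₁ in
theorem genB_sigma {ι : Type} [Finite ι] (U : ι → C)
    (hU : ∀ i, CohCx.IsQcObject ((presheafToSheaf J (Type u)).obj (yoneda.obj (U i)))) :
    GenB O B (∐ fun i => ModSite.freeOn O (U i)) := by
  classical
  have h := fun i => S9115.exists_lift B hB₁ (hU i) (𝟙 (ModSite.freeOn O (U i))) (𝟙 _)
  choose n W hW q hq l hl using h
  let WS : (Σ i : ι, Fin (n i)) → C := fun p => W p.1 p.2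
  haveI : Fintype ι := Fintype.ofFinite ι
  refine ⟨∐ fun p => ModSite.freeOn O (WS p),
    Sigma.desc fun p => Sigma.ι (fun k => ModSite.freeOn O (W p.1 k)) p.2 ≫ q p.1 ≫
      Sigma.ι (fun i => ModSite.freeOn O (U i)) p.1,
    isFree_of_finite WS (fun p => hW p.1 p.2) _ (coproductIsCoproduct fun p => ModSite.freeOn O (WS p)),
    ⟨fun a b h => Sigma.hom_ext _ _ fun i => ?_⟩⟩
  haveI := hq i
  rw [← cancel_epi (q i)]
  refine Sigma.hom_ext _ _ fun k => ?_
  have := congrArg (Sigma.ι (fun p => ModSite.freeOn O (WS p)) ⟨i, k⟩ ≫ ·) h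
  simpa [Sigma.ι_desc_assoc] using this

include hB₁ hB₂ hB₃ in
/-- Lifting along epimorphisms after a refinement with finitely generated kernel. -/
theorem exists_lift_cech {P M N : ModSite.Mod O} (hP : IsFree O B P) (π : M ⟶ N) [Epi π] (φ : P ⟶ N) :
    ∃ (P' : ModSite.Mod O) (q : P' ⟶ P) (l : P' ⟶ M),
      IsFree O B P' ∧ Epi q ∧ GenB O B (kernel q) ∧ l ≫ π = q ≫ φ := by
  obtain ⟨n, U, hU, ⟨e⟩⟩ := hP
  have hl := fun i : Fin n => S9115.exists_lift' B hB₁ (hB₂ _ (hU i)) π
    (Sigma.ι (fun i => ModSite.freeOn O (U i)) i ≫ e.inv ≫ φ)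
  choose m W hW y hy l hql using hl
  let WS : (Σ i : Fin n, Fin (m i)) → C := fun p => W p.1 p.2
  let PS : (Σ i : Fin n, Fin (m i) × Fin (m i)) → C := fun p => pullback (y p.1 p.2.1) (y p.1 p.2.2)
  let q : (∐ fun p => ModSite.freeOn O (WS p)) ⟶ P :=
    Sigma.desc fun p => freeMap (y p.1 p.2) ≫ Sigma.ι (fun i => ModSite.freeOn O (U i)) p.1 ≫ e.inv
  let d : (∐ fun p => ModSite.freeOn O (PS p)) ⟶ (∐ fun p => ModSite.freeOn O (WS p)) :=
    Sigma.desc fun p =>
      freeMap (pullback.fst (y p.1 p.2.1) (y p.1 p.2.2)) ≫ Sigma.ι (fun p => ModSite.freeOn O (WS p)) ⟨p.1, p.2.1⟩ -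
      freeMap (pullback.snd (y p.1 p.2.1) (y p.1 p.2.2)) ≫ Sigma.ι (fun p => ModSite.freeOn O (WS p)) ⟨p.1, p.2.2⟩
  haveI hq : Epi q := ⟨fun a b h => by
    rw [← cancel_epi e.inv]
    refine Sigma.hom_ext _ _ fun i => ?_
    haveI := epi_desc_freeMap (O := O) (y i) (hy i)
    rw [← cancel_epi (Sigma.desc fun k => freeMap (O := O) (y i k))]
    refine Sigma.hom_ext _ _ fun k => ?_
    have := congrArg (Sigma.ι (fun p => ModSite.freeOn O (WS p)) ⟨i, k⟩ ≫ ·) h
    simpa [q, Sigma.ι_desc_assoc] using this⟩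
  have hdq : d ≫ q = 0 := by
    refine Sigma.hom_ext _ _ fun p => ?_
    rw [comp_zero, Sigma.ι_desc_assoc, Preadditive.sub_comp, Category.assoc, Category.assoc, Sigma.ι_desc,
      Sigma.ι_desc, sub_eq_zero, ← Category.assoc, ← Category.assoc (freeMap (pullback.snd _ _))]
    congr 1
    refine (freeOnCorepr O _).homEquiv.injective ?_
    rw [freeMap_comp, freeMap_comp]
    rw [← Category.comp_id (freeMap (y p.1 p.2.1)), freeMap_comp,
      ← Category.comp_id (freeMap (y p.1 p.2.2)), freeMap_comp, ← rs_comp, ← rs_comp, ← op_comp, ← op_comp,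
      pullback.condition]
  have hex : (ShortComplex.mk d q hdq).Exact := by
    refine ShortComplex.exact_of_g_is_cokernel _ (CokernelCofork.IsColimit.ofπ' _ _ fun {T} a ha => ?_)
    have hg := fun i => exists_glue (y i) (hy i) (fun k => Sigma.ι (fun p => ModSite.freeOn O (WS p)) ⟨i, k⟩ ≫ a)
      (fun k k' => by
        have := congrArg (Sigma.ι (fun p => ModSite.freeOn O (PS p)) ⟨i, (k, k')⟩ ≫ ·) ha
        simp only [d, Sigma.ι_desc_assoc, Preadditive.sub_comp, Category.assoc, comp_zero, sub_eq_zero] at this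
        exact this)
    choose b hb using hg
    refine ⟨e.hom ≫ Sigma.desc b, Sigma.hom_ext _ _ fun p => ?_⟩
    simp [q, hb]
  refine ⟨_, q, Sigma.desc fun p => Sigma.ι (fun k => ModSite.freeOn O (W p.1 k)) p.2 ≫ l p.1,
    isFree_of_finite WS (fun p => hW p.1 p.2) _ (coproductIsCoproduct fun p => ModSite.freeOn O (WS p)), hq,
    genB_kernel_of_exact (genB_sigma hB₁ PS fun p => hB₃ _ _ _ _ _ (hU _) (hW _ _) (hW _ _)) hex, ?_⟩
  refine Sigma.hom_ext _ _ fun p => ?_
  simp only [q, Sigma.ι_desc_assoc, Category.assoc]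
  rw [hql p.1, Sigma.ι_desc_assoc]

end

include hB₁ hB₂ in
/-- Kernels of composites of epimorphisms. -/
theorem genB_kernel_comp {P Q M : ModSite.Mod O} (q : P ⟶ Q) [Epi q] (p : Q ⟶ M) (hq : GenB O B (kernel q))
    (hp : GenB O B (kernel p)) : GenB O B (kernel (q ≫ p)) := by
  let f : kernel q ⟶ kernel (q ≫ p) := kernel.lift _ (kernel.ι q) (by rw [kernel.condition_assoc, zero_comp])
  let g : kernel (q ≫ p) ⟶ kernel p := kernel.lift p (kernel.ι _ ≫ q) (by rw [Category.assoc, kernel.condition])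
  have w : f ≫ g = 0 := by rw [← cancel_mono (kernel.ι p)]; simp [f, g]
  haveI : Mono f := mono_of_mono_fac (kernel.lift_ι _ _ _ : f ≫ kernel.ι (q ≫ p) = kernel.ι q)
  haveI : Epi g := by
    rw [epi_iff_surjective_up_to_refinements]
    intro T x
    obtain ⟨T₁, a, ha, z, hz⟩ := surjective_up_to_refinements_of_epi q (x ≫ kernel.ι p)
    refine ⟨T₁, a, ha, kernel.lift _ z (by rw [← reassoc_of% hz]; simp), ?_⟩
    rw [← cancel_mono (kernel.ι p)]
    simp [g, hz]
  have hex : (ShortComplex.mk f g w).Exact := by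
    rw [ShortComplex.exact_iff_exact_up_to_refinements]
    intro T x hx
    have : (x ≫ kernel.ι (q ≫ p)) ≫ q = 0 := by simpa [g] using congrArg (· ≫ kernel.ι p) hx
    exact ⟨T, 𝟙 T, inferInstance, kernel.lift q _ this, by rw [← cancel_mono (kernel.ι (q ≫ p))]; simp [f]⟩
  exact GenB.ext hB₁ hB₂ (S := ShortComplex.mk f g w) (.mk' hex inferInstance inferInstance) hq hp

end Groth.Agent.TypeALib
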