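import Groth.Agent.S9115
import Mathlib.CategoryTheory.Abelian.Refinements

/-!
# Modules with finite presentations by `j_{U!} O_U`, `U` in a quasi-compact covering collection
-/

set_option autoImplicit false
set_option linter.style.haveILetI false
set_option backward.isDefEq.respectTransparency false
set_option backward.isDefEq.respectTransparency.types false

universe u

open CategoryTheory CategoryTheory.Limits Opposite

namespace Groth.Agent.TypeALib

variable {C : Type u} [SmallCategory C] {J : GrothendieckTopology C} (O : Sheaf J CommRingCat.{u}) (B : Set C)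

/-- A finite sum of `j_{U!} O_U`, `U ∈ B`. -/
def IsFree (P : ModSite.Mod O) : Prop :=
  ∃ (n : ℕ) (U : Fin n → C), (∀ i, U i ∈ B) ∧ Nonempty (P ≅ ∐ fun i => ModSite.freeOn O (U i))

/-- Generated by finitely many sections over members of `B`. -/
def GenB (M : ModSite.Mod O) : Prop :=
  ∃ (P : ModSite.Mod O) (p : P ⟶ M), IsFree O B P ∧ Epi p

/-- Finitely presented by sections over members of `B`. -/
def TypeA (M : ModSite.Mod O) : Prop :=
  ∃ (m' n' : ℕ) (V' : Fin m' → C) (U' : Fin n' → C)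
        (ψ : (∐ fun j => ModSite.freeOn O (V' j)) ⟶ ∐ fun i => ModSite.freeOn O (U' i)),
        (∀ j, V' j ∈ B) ∧ (∀ i, U' i ∈ B) ∧ Nonempty (M ≅ cokernel ψ)

variable {O B}

theorem IsFree.of_iso {P Q : ModSite.Mod O} (e : P ≅ Q) (h : IsFree O B P) : IsFree O B Q := by
  obtain ⟨n, U, hU, ⟨f⟩⟩ := h
  exact ⟨n, U, hU, ⟨e.symm ≪≫ f⟩⟩

theorem isFree_sigma {n : ℕ} {U : Fin n → C} (hU : ∀ i, U i ∈ B) :
    IsFree O B (∐ fun i => ModSite.freeOn O (U i)) := ⟨n, U, hU, ⟨Iso.refl _⟩⟩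

theorem isFree_of_finite {ι : Type} [Finite ι] (U : ι → C) (hU : ∀ i, U i ∈ B) {P : ModSite.Mod O}
    (e : ∀ i, ModSite.freeOn O (U i) ⟶ P) (hc : IsColimit (Cofan.mk P e)) : IsFree O B P := by
  obtain ⟨n, ⟨σ⟩⟩ := Finite.exists_equiv_fin ι
  let Uf : Fin n → C := fun i => U (σ.symm i)
  refine ⟨n, Uf, fun i => hU _, ⟨(hc.coconePointUniqueUpToIso
    (colimit.isColimit (Discrete.functor fun i => ModSite.freeOn O (U i)))) ≪≫ ?_⟩⟩
  exact (Sigma.whiskerEquiv (f := fun i => ModSite.freeOn O (Uf i)) (g := fun i => ModSite.freeOn O (U i))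
    σ.symm (fun i => Iso.refl _)).symm

theorem IsFree.biprod {P Q : ModSite.Mod O} (hP : IsFree O B P) (hQ : IsFree O B Q) : IsFree O B (P ⊞ Q) := by
  obtain ⟨n, U, hU, ⟨e⟩⟩ := hP
  obtain ⟨m, V, hV, ⟨f⟩⟩ := hQ
  let W : Fin n ⊕ Fin m → C := Sum.elim U V
  let ι : ∀ s, ModSite.freeOn O (W s) ⟶ P ⊞ Q := fun
    | .inl i => Sigma.ι (fun i => ModSite.freeOn O (U i)) i ≫ e.inv ≫ biprod.inl
    | .inr j => Sigma.ι (fun j => ModSite.freeOn O (V j)) j ≫ f.inv ≫ biprod.inr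
  refine isFree_of_finite W (by rintro (i | j); exacts [hU i, hV j]) ι ?_
  refine Cofan.IsColimit.mk _ (fun s => biprod.desc (e.hom ≫ Sigma.desc fun i => s.inj (.inl i))
    (f.hom ≫ Sigma.desc fun j => s.inj (.inr j))) ?_ ?_
  · rintro s (i | j) <;> simp [Cofan.mk, ι, Cofan.inj]
  · intro s m hm
    apply biprod.hom_ext'
    · rw [biprod.inl_desc, ← cancel_epi e.inv, e.inv_hom_id_assoc]
      exact Sigma.hom_ext _ _ fun i => by simpa [Cofan.mk, ι, Cofan.inj] using hm (.inl i)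
    · rw [biprod.inr_desc, ← cancel_epi f.inv, f.inv_hom_id_assoc]
      exact Sigma.hom_ext _ _ fun j => by simpa [Cofan.mk, ι, Cofan.inj] using hm (.inr j)

theorem IsFree.genB {P : ModSite.Mod O} (hP : IsFree O B P) : GenB O B P := ⟨P, 𝟙 P, hP, inferInstance⟩

theorem GenB.of_epi {M N : ModSite.Mod O} (f : M ⟶ N) [Epi f] (h : GenB O B M) : GenB O B N := by
  obtain ⟨P, p, hP, hp⟩ := h
  haveI := hp
  exact ⟨P, p ≫ f, hP, epi_comp _ _⟩

theorem typeA_of_presentation {P M : ModSite.Mod O} (hP : IsFree O B P) (p : P ⟶ M) [Epi p]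
    (hK : GenB O B (kernel p)) : TypeA O B M := by
  obtain ⟨n, U, hU, ⟨e⟩⟩ := hP
  obtain ⟨R, r, ⟨m, V, hV, ⟨f⟩⟩, hr⟩ := hK
  haveI := hr
  let ψ := f.inv ≫ r ≫ kernel.ι p ≫ e.hom
  have hψ : ψ ≫ e.inv ≫ p = 0 := by simp [ψ]
  refine ⟨m, n, V, U, ψ, hV, hU, ⟨?_⟩⟩
  have hc := Abelian.epiIsCokernelOfKernel (KernelFork.ofι (kernel.ι p) (kernel.condition p)) (kernelIsKernel p)
  have h0 : kernel.ι p ≫ e.hom ≫ cokernel.π ψ = 0 := by
    haveI : Epi (f.inv ≫ r) := epi_comp _ _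
    rw [← cancel_epi (f.inv ≫ r), comp_zero]
    exact (show (f.inv ≫ r) ≫ kernel.ι p ≫ e.hom ≫ cokernel.π ψ = ψ ≫ cokernel.π ψ from by
      simp only [ψ, Category.assoc]).trans (cokernel.condition ψ)
  refine { hom := hc.desc (CokernelCofork.ofπ (e.hom ≫ cokernel.π ψ) h0)
           inv := cokernel.desc ψ (e.inv ≫ p) hψ
           hom_inv_id := ?_, inv_hom_id := ?_ }
  · have := hc.fac (CokernelCofork.ofπ (e.hom ≫ cokernel.π ψ) h0) WalkingParallelPair.one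
    rw [← cancel_epi p]
    simp only [Cofork.app_one_eq_π, Cofork.π_ofπ] at this
    rw [reassoc_of% this]
    simp
  · have := hc.fac (CokernelCofork.ofπ (e.hom ≫ cokernel.π ψ) h0) WalkingParallelPair.one
    simp only [Cofork.app_one_eq_π, Cofork.π_ofπ] at this
    refine coequalizer.hom_ext ?_
    simp [this]

theorem TypeA.exists_presentation {M : ModSite.Mod O} (h : TypeA O B M) :
    ∃ (P R : ModSite.Mod O) (r : R ⟶ P) (p : P ⟶ M) (w : r ≫ p = 0),
      IsFree O B P ∧ IsFree O B R ∧ Epi p ∧ (ShortComplex.mk r p w).Exact := by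
  obtain ⟨m, n, V, U, ψ, hV, hU, ⟨e⟩⟩ := h
  refine ⟨_, _, ψ, cokernel.π ψ ≫ e.inv, by simp, isFree_sigma hU, isFree_sigma hV, epi_comp _ _, ?_⟩
  let S₁ : ShortComplex (ModSite.Mod O) := ShortComplex.mk ψ (cokernel.π ψ) (cokernel.condition ψ)
  refine ShortComplex.exact_of_iso (ShortComplex.isoMk (S₁ := S₁) (Iso.refl _) (Iso.refl _) e.symm
      (by simp [S₁]) (by simp [S₁]))
    (ShortComplex.exact_of_g_is_cokernel S₁ (cokernelIsCokernel ψ))

variable (hB₁ : ∀ X : C, ∃ (κ : Type u) (Y : κ → C) (g : ∀ k, Y k ⟶ X), Sieve.ofArrows Y g ∈ J X ∧ ∀ k, Y k ∈ B)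
  (hB₂ : ∀ U ∈ B, CohCx.IsQcObject ((presheafToSheaf J (Type u)).obj (yoneda.obj U)))

include hB₁ hB₂ in
/-- Lifting along epimorphisms after refinement. -/
theorem exists_lift {P M N : ModSite.Mod O} (hP : IsFree O B P) (π : M ⟶ N) [Epi π] (φ : P ⟶ N) :
    ∃ (P' : ModSite.Mod O) (q : P' ⟶ P) (l : P' ⟶ M), IsFree O B P' ∧ Epi q ∧ l ≫ π = q ≫ φ := by
  obtain ⟨n, U, hU, ⟨e⟩⟩ := hP
  have hl := fun i : Fin n => S9115.exists_lift B hB₁ (hB₂ _ (hU i)) π
    (Sigma.ι (fun i => ModSite.freeOn O (U i)) i ≫ e.inv ≫ φ)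
  choose m W hW q hq l hql using hl
  let WS : (Σ i : Fin n, Fin (m i)) → C := fun p => W p.1 p.2
  refine ⟨∐ fun p => ModSite.freeOn O (WS p),
    Sigma.desc fun p => Sigma.ι (fun k => ModSite.freeOn O (W p.1 k)) p.2 ≫ q p.1 ≫
      Sigma.ι (fun i => ModSite.freeOn O (U i)) p.1 ≫ e.inv,
    Sigma.desc fun p => Sigma.ι (fun k => ModSite.freeOn O (W p.1 k)) p.2 ≫ l p.1,
    isFree_of_finite WS (fun p => hW p.1 p.2) _
      (coproductIsCoproduct fun p => ModSite.freeOn O (WS p)), ⟨fun a b h => ?_⟩, ?_⟩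
  · rw [← cancel_epi e.inv]
    refine Sigma.hom_ext _ _ fun i => ?_
    haveI := hq i
    rw [← cancel_epi (q i)]
    refine Sigma.hom_ext _ _ fun k => ?_
    have := congrArg (Sigma.ι (fun p => ModSite.freeOn O (WS p)) ⟨i, k⟩ ≫ ·) h
    simpa [Sigma.ι_desc_assoc] using this
  · refine Sigma.hom_ext _ _ fun p => ?_
    simp only [Sigma.ι_desc_assoc, Category.assoc]
    rw [hql p.1]

include hB₁ hB₂ in
/-- Generation passes to extensions. -/
theorem GenB.ext {S : ShortComplex (ModSite.Mod O)} (hS : S.ShortExact) (h₁ : GenB O B S.X₁)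
    (h₃ : GenB O B S.X₃) : GenB O B S.X₂ := by
  obtain ⟨P₁, p₁, hP₁, hp₁⟩ := h₁
  obtain ⟨P₃, p₃, hP₃, hp₃⟩ := h₃
  haveI := hp₁; haveI := hp₃; haveI := hS.epi_g
  obtain ⟨P', q, l, hP', hq, hl⟩ := exists_lift hB₁ hB₂ hP₃ S.g p₃
  refine ⟨P₁ ⊞ P', biprod.desc (p₁ ≫ S.f) l, hP₁.biprod hP', ⟨fun a b h => ?_⟩⟩
  haveI := hq
  have h1 : S.f ≫ a = S.f ≫ b := by
    rw [← cancel_epi p₁]
    simpa using congrArg (biprod.inl ≫ ·) h
  have h2 : l ≫ a = l ≫ b := by simpa using congrArg (biprod.inr ≫ ·) h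
  rw [← sub_eq_zero] at h1 h2 ⊢
  rw [← Preadditive.comp_sub] at h1 h2
  have hd := hS.exact.g_desc (a - b) h1
  rw [← hd]
  have : hS.exact.desc (a - b) h1 = 0 := by
    rw [← cancel_epi (q ≫ p₃), comp_zero, ← hl, Category.assoc, hd]
    exact h2
  rw [this, comp_zero]

include hB₁ hB₂ in
/-- Kernels of maps from free modules to presented modules are generated, if kernels between free modules are presented. -/
theorem genB_kernel
    (hker : ∀ (m n : ℕ) (V : Fin m → C) (U : Fin n → C)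
      (φ : (∐ fun j => ModSite.freeOn O (V j)) ⟶ ∐ fun i => ModSite.freeOn O (U i)),
      (∀ j, V j ∈ B) → (∀ i, U i ∈ B) → TypeA O B (kernel φ))
    {P M : ModSite.Mod O} (hP : IsFree O B P) (hM : TypeA O B M) (f : P ⟶ M) : GenB O B (kernel f) := by
  obtain ⟨P₀, R, r, π, w, hP₀, hR, hπ, hex⟩ := hM.exists_presentation
  haveI := hπ
  obtain ⟨P', q, l, hP', hq, hl⟩ := exists_lift hB₁ hB₂ hP π f
  haveI := hq
  let φ : P' ⊞ R ⟶ P₀ := biprod.desc l r
  have hw : (kernel.ι φ ≫ biprod.fst ≫ q) ≫ f = 0 := by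
    have h1 : φ ≫ π = biprod.fst ≫ q ≫ f := by
      apply biprod.hom_ext' <;> simp [φ, hl, w]
    rw [Category.assoc, Category.assoc, ← h1, kernel.condition_assoc, zero_comp]
  have hgen : GenB O B (kernel φ) := by
    obtain ⟨m, V, hV, ⟨eV⟩⟩ := hP'.biprod hR
    obtain ⟨n, U, hU, ⟨eU⟩⟩ := hP₀
    obtain ⟨P'', R'', r'', π'', -, hP'', -, hπ'', -⟩ := (hker m n V U (eV.inv ≫ φ ≫ eU.hom) hV hU).exists_presentation
    haveI := hπ''
    let c : kernel (eV.inv ≫ φ ≫ eU.hom) ⟶ kernel φ := kernel.lift φ (kernel.ι _ ≫ eV.inv) (by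
      rw [← cancel_mono eU.hom, zero_comp]; simpa using kernel.condition (eV.inv ≫ φ ≫ eU.hom))
    haveI : Epi c := by
      refine (SplitEpi.mk (kernel.lift _ (kernel.ι φ ≫ eV.hom) (by simp)) ?_).epi
      rw [← cancel_mono (kernel.ι φ)]; simp [c]
    exact ⟨P'', π'' ≫ c, hP'', epi_comp _ _⟩
  haveI : Epi (kernel.lift f (kernel.ι φ ≫ biprod.fst ≫ q) hw) := by
    rw [epi_iff_surjective_up_to_refinements]
    intro T x
    obtain ⟨T₁, a, ha, x₁, hx₁⟩ := surjective_up_to_refinements_of_epi q (x ≫ kernel.ι f)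
    obtain ⟨T₂, b, hb, y, hy⟩ := hex.exact_up_to_refinements (x₁ ≫ l) (by
      show (x₁ ≫ l) ≫ π = 0
      rw [Category.assoc, hl, ← reassoc_of% hx₁]; simp)
    refine ⟨T₂, b ≫ a, epi_comp _ _, kernel.lift φ (biprod.lift (b ≫ x₁) (-y)) (by
      simp only [φ, biprod.lift_desc, Category.assoc, Preadditive.neg_comp]
      rw [show b ≫ x₁ ≫ l = y ≫ r from hy, add_neg_cancel]), ?_⟩
    rw [← cancel_mono (kernel.ι f)]
    simp [hx₁]
  exact hgen.of_epi (kernel.lift f (kernel.ι φ ≫ biprod.fst ≫ q) hw)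

end Groth.Agent.TypeALib
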